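import Groth.Prelude.Def_DerCA

/-!
# Inverse systems in triangulated categories
-/

set_option autoImplicit false
set_option linter.style.haveILetI false

universe v u

open CategoryTheory CategoryTheory.Limits CategoryTheory.Pretriangulated Opposite

namespace Groth.Agent.TriDecomp

variable {D : Type u} [Category.{v} D] [Preadditive D] [HasZeroObject D] [HasShift D ℤ]
  [∀ n : ℤ, (shiftFunctor D n).Additive] [Pretriangulated D]

omit [Preadditive D] [HasZeroObject D] [HasShift D ℤ]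
  [∀ n : ℤ, (shiftFunctor D n).Additive] [Pretriangulated D] in
theorem tr_tr' (X : ARSys.PS D) {a b c : ℕ} (h₁ : a ≤ b) (h₂ : b ≤ c) :
    ARSys.tr X h₂ ≫ ARSys.tr X h₁ = ARSys.tr X (h₁.trans h₂) := by
  rw [ARSys.tr, ARSys.tr, ← X.map_comp, ← op_comp, homOfLE_comp]

theorem isProIso_of_isProZero (X Y Z : ARSys.PS D) (f : X ⟶ Y) (g : Y ⟶ Z)
    (h : Z ⟶ X ⋙ shiftFunctor D (1 : ℤ))
    (hT : ∀ n : ℕ, Triangle.mk (f.app (op n)) (g.app (op n)) (h.app (op n)) ∈ distTriang D)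
    (hZ : DerCA.IsProZero Z) : DerCA.IsProIso f := by
  intro n
  obtain ⟨m₁, h₁, e₁⟩ := hZ n
  obtain ⟨m₂, h₂, e₂⟩ := hZ m₁
  have hy : ARSys.tr Y h₂ ≫ g.app (op m₁) = 0 := by
    rw [ARSys.tr, g.naturality]
    exact (congrArg (_ ≫ ·) e₂).trans comp_zero
  obtain ⟨b₁, hb₁⟩ : ∃ b : Y.obj (op m₂) ⟶ X.obj (op m₁), ARSys.tr Y h₂ = b ≫ f.app (op m₁) :=
    Triangle.coyoneda_exact₂ (Triangle.mk (f.app (op m₁)) (g.app (op m₁)) (h.app (op m₁)))
      (hT m₁) (ARSys.tr Y h₂) hy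
  refine ⟨m₂, h₁.trans h₂, b₁ ≫ ARSys.tr X h₁, ?_, ?_⟩
  · let T := fun n => Triangle.mk (f.app (op n)) (g.app (op n)) (h.app (op n))
    let φ : T m₁ ⟶ T n := Triangle.homMk _ _ (ARSys.tr X h₁) (ARSys.tr Y h₁) (ARSys.tr Z h₁)
      (f.naturality (homOfLE h₁).op).symm (g.naturality (homOfLE h₁).op).symm
      (h.naturality (homOfLE h₁).op).symm
    let φ' : (T m₁).invRotate ⟶ (T n).invRotate := (invRotate D).map φ
    obtain ⟨u, hu⟩ : ∃ u : X.obj (op m₂) ⟶ (T m₁).invRotate.obj₁,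
        f.app (op m₂) ≫ b₁ - ARSys.tr X h₂ = u ≫ (T m₁).invRotate.mor₁ :=
      Triangle.coyoneda_exact₂ _ (inv_rot_of_distTriang _ (hT m₁))
        (f.app (op m₂) ≫ b₁ - ARSys.tr X h₂) (by
        show (f.app (op m₂) ≫ b₁ - ARSys.tr X h₂) ≫ f.app (op m₁) = 0
        rw [Preadditive.sub_comp, Category.assoc, ← hb₁, ← f.naturality, sub_self])
    have h0 : φ'.hom₁ = 0 := by
      show (shiftFunctor D (-1 : ℤ)).map (ARSys.tr Z h₁) = 0
      rw [e₁, Functor.map_zero]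
    have hd : (f.app (op m₂) ≫ b₁ - ARSys.tr X h₂) ≫ ARSys.tr X h₁ = 0 := by
      have e3 : (T m₁).invRotate.mor₁ ≫ ARSys.tr X h₁ = φ'.hom₁ ≫ (T n).invRotate.mor₁ := φ'.comm₁
      exact (congrArg (· ≫ ARSys.tr X h₁) hu).trans ((Category.assoc _ _ _).trans
        ((congrArg (u ≫ ·) (e3.trans ((congrArg (· ≫ _) h0).trans zero_comp))).trans comp_zero))
    rw [← tr_tr' X h₁ h₂, ← sub_eq_zero, ← Category.assoc]
    rwa [Preadditive.sub_comp] at hd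
  · rw [Category.assoc, ARSys.tr, f.naturality, ← Category.assoc, ← hb₁]
    exact tr_tr' Y h₁ h₂

theorem exists_splitting {A X : D} (c : A ⟶ X) (r : X ⟶ A) (hcr : c ≫ r = 𝟙 A) :
    ∃ (Z : D) (g : X ⟶ Z) (σ : Z ⟶ X), c ≫ g = 0 ∧ σ ≫ r = 0 ∧ σ ≫ g = 𝟙 Z ∧
      r ≫ c + g ≫ σ = 𝟙 X := by
  obtain ⟨Z, g, h, hT⟩ := distinguished_cocone_triangle c
  haveI : IsSplitMono c := ⟨⟨r, hcr⟩⟩
  have h0 : h = 0 := Triangle.mor₃_eq_zero_of_mono₁ _ hT (inferInstanceAs (Mono c))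
  obtain ⟨σ, hσ⟩ : ∃ σ : Z ⟶ X, 𝟙 Z = σ ≫ g :=
    Triangle.coyoneda_exact₃ _ hT (𝟙 Z) (by show 𝟙 Z ≫ h = 0; rw [h0, comp_zero])
  have hcg : c ≫ g = 0 := comp_distTriang_mor_zero₁₂ _ hT
  obtain ⟨v, hv⟩ : ∃ v : Z ⟶ X, 𝟙 X - r ≫ c = g ≫ v :=
    Triangle.yoneda_exact₂ _ hT (𝟙 X - r ≫ c) (by
      show c ≫ (𝟙 X - r ≫ c) = 0
      rw [Preadditive.comp_sub, Category.comp_id, ← Category.assoc, hcr, Category.id_comp, sub_self])
  have hv' : v = σ - σ ≫ r ≫ c := by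
    calc v = (σ ≫ g) ≫ v := by rw [← hσ, Category.id_comp]
      _ = σ ≫ (𝟙 X - r ≫ c) := by rw [hv, Category.assoc]
      _ = σ - σ ≫ r ≫ c := by rw [Preadditive.comp_sub, Category.comp_id]
  refine ⟨Z, g, v, hcg, ?_, ?_, ?_⟩
  · rw [hv', Preadditive.sub_comp, Category.assoc, Category.assoc, hcr, Category.comp_id, sub_self]
  · rw [hv', Preadditive.sub_comp, Category.assoc, Category.assoc, hcg, comp_zero, comp_zero,
      sub_zero, ← hσ]
  · rw [← hv]; abel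

theorem exists_decomposition (X : ARSys.PS D) (A : D) (c : (Functor.const ℕᵒᵖ).obj A ⟶ X)
    (hX : DerCA.IsEssConstant X A c) :
    ∃ (i : ℕ) (Z : ℕ → D) (e : ∀ j : ℕ, X.obj (op (i + j)) ≅ A ⊞ Z j)
      (z : ∀ j k : ℕ, j ≤ k → (Z k ⟶ Z j)),
      (∀ j : ℕ, c.app (op (i + j)) ≫ (e j).hom = biprod.inl) ∧
      (∀ (j k : ℕ) (hjk : j ≤ k), (e k).inv ≫ ARSys.tr X (Nat.add_le_add_left hjk i) =
        biprod.map (𝟙 A) (z j k hjk) ≫ (e j).inv) ∧
      (∀ j : ℕ, ∃ (k : ℕ) (hjk : j ≤ k), z j k hjk = 0) := by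
  obtain ⟨i, s, hs, hX'⟩ := hX
  let cc : ∀ j : ℕ, A ⟶ X.obj (op (i + j)) := fun j => c.app (op (i + j))
  have hcn : ∀ {a b : ℕ} (hab : a ≤ b), (c.app (op b) : A ⟶ X.obj (op b)) ≫ ARSys.tr X hab =
      c.app (op a) := fun hab => (c.naturality (homOfLE hab).op).symm.trans (Category.id_comp _)
  let r : ∀ j : ℕ, X.obj (op (i + j)) ⟶ A := fun j => ARSys.tr X (Nat.le_add_right i j) ≫ s
  have hcr : ∀ j, cc j ≫ r j = 𝟙 A := fun j =>
    (Category.assoc _ _ _).symm.trans ((congrArg (· ≫ s) (hcn (Nat.le_add_right i j))).trans hs)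
  choose Z g σ hcg hσr hσg hsum using fun j => exists_splitting (cc j) (r j) (hcr j)
  let e : ∀ j, X.obj (op (i + j)) ≅ A ⊞ Z j := fun j =>
    { hom := biprod.lift (r j) (g j)
      inv := biprod.desc (cc j) (σ j)
      hom_inv_id := by rw [biprod.lift_desc, hsum]
      inv_hom_id := by
        apply biprod.hom_ext' <;> apply biprod.hom_ext <;> simp [hcr, hcg, hσr, hσg] }
  let z : ∀ j k : ℕ, j ≤ k → (Z k ⟶ Z j) := fun j k h =>
    σ k ≫ ARSys.tr X (Nat.add_le_add_left h i) ≫ g j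
  refine ⟨i, Z, e, z, fun j => ?_, fun j k hjk => ?_, fun j => ?_⟩
  · show cc j ≫ biprod.lift (r j) (g j) = biprod.inl
    apply biprod.hom_ext <;> simp [hcr, hcg]
  · show biprod.desc (cc k) (σ k) ≫ _ = biprod.map _ _ ≫ biprod.desc (cc j) (σ j)
    apply biprod.hom_ext'
    · rw [biprod.inl_desc_assoc, biprod.inl_map_assoc, biprod.inl_desc, Category.id_comp]
      exact hcn _
    · rw [biprod.inr_desc_assoc, biprod.inr_map_assoc, biprod.inr_desc]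
      have hr : σ k ≫ ARSys.tr X (Nat.add_le_add_left hjk i) ≫ r j = 0 := by
        show σ k ≫ ARSys.tr X _ ≫ ARSys.tr X _ ≫ s = 0
        rw [← Category.assoc (ARSys.tr X _), tr_tr']
        exact hσr k
      calc σ k ≫ ARSys.tr X (Nat.add_le_add_left hjk i)
          = (σ k ≫ ARSys.tr X (Nat.add_le_add_left hjk i)) ≫ (r j ≫ cc j + g j ≫ σ j) := by
            rw [hsum, Category.comp_id]
        _ = z j k hjk ≫ σ j := by
            rw [Preadditive.comp_add, ← Category.assoc _ (r j),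
              show (σ k ≫ ARSys.tr X (Nat.add_le_add_left hjk i)) ≫ r j = 0 from
                (Category.assoc _ _ _).trans hr, zero_comp, zero_add]
            simp only [z, Category.assoc]
  · obtain ⟨k', hik, hjk', hfac⟩ := hX' (i + j)
    obtain ⟨k, rfl⟩ := Nat.exists_eq_add_of_le hik
    refine ⟨k, Nat.le_of_add_le_add_left hjk', ?_⟩
    show σ k ≫ ARSys.tr X hjk' ≫ g j = 0
    rw [hfac]
    have h0 : σ k ≫ ARSys.tr X hik ≫ s = 0 := hσr k
    calc σ k ≫ (ARSys.tr X hik ≫ s ≫ cc j) ≫ g j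
        = (σ k ≫ ARSys.tr X hik ≫ s) ≫ cc j ≫ g j := by simp only [Category.assoc]
      _ = 0 := by rw [h0, zero_comp]

end Groth.Agent.TriDecomp
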