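import Mathlib

set_option autoImplicit false

open CategoryTheory CategoryTheory.Limits CategoryTheory.Pretriangulated

namespace Groth.Agent.TriDecomp

universe v u
variable {D : Type u} [Category.{v} D] [Preadditive D] [HasZeroObject D] [HasShift D ℤ]
    [∀ n : ℤ, (shiftFunctor D n).Additive] [Pretriangulated D]
    (B : ObjectProperty D) [B.IsTriangulated]

/-- `X` has a morphism to an object of `B` with left orthogonal fibre. -/
def hasReflection : ObjectProperty D := fun X =>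
  ∃ (Y : D) (η : X ⟶ Y), B Y ∧ B.leftOrthogonal.trW η

lemma hasReflection_iff (X : D) :
    hasReflection B X ↔ ∃ (A Y : D) (f : A ⟶ X) (g : X ⟶ Y) (h : Y ⟶ (shiftFunctor D (1 : ℤ)).obj A),
      Triangle.mk f g h ∈ distinguishedTriangles ∧ B Y ∧ B.leftOrthogonal A := by
  constructor
  · rintro ⟨Y, η, hY, hη⟩
    obtain ⟨A, f, h, hT, hA⟩ := (ObjectProperty.trW_iff' _ η).mp hη
    exact ⟨A, Y, f, η, h, hT, hY, hA⟩
  · rintro ⟨A, Y, f, g, h, hT, hY, hA⟩
    exact ⟨Y, g, hY, (ObjectProperty.trW_iff' _ g).mpr ⟨A, f, h, hT, hA⟩⟩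

lemma bijective_precomp {X Y : D} {η : X ⟶ Y} (hη : B.leftOrthogonal.trW η) {Z : D} (hZ : B Z) :
    Function.Bijective fun β : Y ⟶ Z => η ≫ β := by
  obtain ⟨A, f, h, hT, hA⟩ := (ObjectProperty.trW_iff' _ η).mp hη
  constructor
  · intro β₁ β₂ hβ
    have h0 : η ≫ (β₁ - β₂) = 0 := by rw [Preadditive.comp_sub]; exact sub_eq_zero.mpr hβ
    obtain ⟨γ, hγ⟩ := Triangle.yoneda_exact₂ _ (rot_of_distTriang _ hT) (β₁ - β₂) h0
    have hs : γ = 0 := B.leftOrthogonal.le_shift (1 : ℤ) _ hA γ hZ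
    rw [hs, comp_zero] at hγ
    exact sub_eq_zero.mp hγ
  · intro α
    obtain ⟨β, hβ⟩ := Triangle.yoneda_exact₂ _ hT α (hA _ hZ)
    exact ⟨β, hβ.symm⟩

variable [IsTriangulated D]

instance : (hasReflection B).IsClosedUnderIsomorphisms where
  of_iso e := by
    rintro ⟨Y, η, hY, hη⟩
    exact ⟨Y, e.inv ≫ η, hY, MorphismProperty.RespectsIso.precomp _ _ _ hη⟩

lemma isTriangulated_hasReflection : (hasReflection B).IsTriangulated := by
  have hcontains : (hasReflection B).ContainsZero := by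
    obtain ⟨Z, hZ, hBZ⟩ := B.exists_prop_of_containsZero
    exact ⟨Z, hZ, Z, 𝟙 Z, hBZ, MorphismProperty.id_mem _ _⟩
  have hshift : (hasReflection B).IsStableUnderShift ℤ := ⟨fun a => ⟨fun X => by
    rintro ⟨Y, η, hY, hη⟩
    exact ⟨_, (shiftFunctor D a).map η, B.le_shift a _ hY, B.leftOrthogonal.trW.shift hη a⟩⟩⟩
  have h₃ : (hasReflection B).IsTriangulatedClosed₃ := .mk' fun T hT => by
    rintro ⟨Y₁, η₁, hY₁, hη₁⟩ ⟨Y₂, η₂, hY₂, hη₂⟩
    obtain ⟨g, hg⟩ := (bijective_precomp B hη₁ hY₂).2 (T.mor₁ ≫ η₂)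
    obtain ⟨Y₃, hY₃, g₂, g₃, hT'⟩ := B.distinguished_cocone_triangle g hY₁ hY₂
    obtain ⟨c, hc, -⟩ := MorphismProperty.compatible_with_triangulation (W := B.leftOrthogonal.trW)
      T _ hT hT' η₁ η₂ hη₁ hη₂ hg.symm
    exact ⟨Y₃, c, hY₃, hc⟩
  have : (hasReflection B).IsTriangulatedClosed₂ :=
    ObjectProperty.IsTriangulatedClosed₂.of_isTriangulatedClosed₃
  exact {}

end Groth.Agent.TriDecomp
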