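import Mathlib

/-!
# Morphisms between distinguished triangles, idempotents
-/

set_option autoImplicit false

universe v u

open CategoryTheory CategoryTheory.Limits CategoryTheory.Pretriangulated

namespace Groth.Agent.TriDecomp

variable {D : Type u} [Category.{v} D] [Preadditive D] [HasZeroObject D] [HasShift D ℤ]
  [∀ n : ℤ, (shiftFunctor D n).Additive] [Pretriangulated D]
  (T T' : Triangle D) (hT : T ∈ distinguishedTriangles) (hT' : T' ∈ distinguishedTriangles)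

include hT hT' in
theorem hom₂_eq (φ ψ : T ⟶ T') (h₁ : φ.hom₁ = ψ.hom₁) (h₃ : φ.hom₃ = ψ.hom₃)
    (hc : (∀ u : T.obj₂ ⟶ T'.obj₁, u = 0) ∨ (∀ u : T.obj₃ ⟶ T'.obj₂, u = 0) ∨
      ((∀ u : T.obj₁ ⟶ T'.obj₁, u = 0) ∧ (∀ u : T.obj₃ ⟶ T'.obj₁, u = 0)) ∨
      ((∀ u : T.obj₃ ⟶ T'.obj₁, u = 0) ∧ (∀ u : T.obj₃ ⟶ T'.obj₃, u = 0)) ∨
      ((∀ u : (shiftFunctor D (1 : ℤ)).obj T.obj₁ ⟶ T'.obj₃, u = 0) ∧
        (∀ u : T.obj₃ ⟶ T'.obj₁, u = 0))) :
    φ.hom₂ = ψ.hom₂ := by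
  rw [← sub_eq_zero]
  have hf : T.mor₁ ≫ (φ.hom₂ - ψ.hom₂) = 0 := by
    rw [Preadditive.comp_sub, φ.comm₁, ψ.comm₁, h₁, sub_self]
  have hg : (φ.hom₂ - ψ.hom₂) ≫ T'.mor₂ = 0 := by
    rw [Preadditive.sub_comp, ← φ.comm₂, ← ψ.comm₂, h₃, sub_self]
  obtain ⟨s, hs⟩ := Triangle.yoneda_exact₂ _ hT _ hf
  obtain ⟨t, ht⟩ := Triangle.coyoneda_exact₂ _ hT' _ hg
  rcases hc with hc | hc | ⟨h11, h31⟩ | ⟨h31, h33⟩ | ⟨h13, h31⟩
  · rw [ht, hc t, zero_comp]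
  · rw [hs, hc s, comp_zero]
  · obtain ⟨t', ht'⟩ := Triangle.yoneda_exact₂ _ hT t (h11 _)
    rw [ht, ht', h31 t', comp_zero, zero_comp]
  · obtain ⟨s', hs'⟩ := Triangle.coyoneda_exact₂ _ hT' s (h33 _)
    rw [hs, hs', h31 s', zero_comp, comp_zero]
  · obtain ⟨r, hr⟩ := Triangle.yoneda_exact₃ _ hT (s ≫ T'.mor₂)
      (by rw [← Category.assoc, ← hs, hg])
    obtain ⟨s', hs'⟩ := Triangle.coyoneda_exact₂ _ hT' s (by rw [hr, h13 r, comp_zero])
    rw [hs, hs', h31 s', zero_comp, comp_zero]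

include hT hT' in
theorem bijective_pair (hXZ : ∀ u : T.obj₁ ⟶ T'.obj₃, u = 0)
    (hXZ' : ∀ u : T.obj₁ ⟶ (shiftFunctor D (-1 : ℤ)).obj T'.obj₃, u = 0) :
    Function.Bijective (fun u : T.obj₁ ⟶ T'.obj₁ => u ≫ T'.mor₁) ∧
      Function.Bijective (fun w : T.obj₃ ⟶ T'.obj₃ => T.mor₂ ≫ w) := by
  refine ⟨⟨fun a b e => ?_, fun v => ?_⟩, fun a b e => ?_, fun v => ?_⟩
  · rw [← sub_eq_zero]
    obtain ⟨t, ht⟩ := Triangle.coyoneda_exact₂ _ (inv_rot_of_distTriang T' hT') (a - b)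
      (show (a - b) ≫ T'.mor₁ = 0 by rw [Preadditive.sub_comp, sub_eq_zero]; exact e)
    exact ht.trans ((congrArg (· ≫ _) (hXZ' t)).trans zero_comp)
  · obtain ⟨a, ha⟩ := Triangle.coyoneda_exact₂ _ hT' v (hXZ _)
    exact ⟨a, ha.symm⟩
  · rw [← sub_eq_zero]
    obtain ⟨r, hr⟩ := Triangle.yoneda_exact₃ _ hT (a - b)
      (by rw [Preadditive.comp_sub, sub_eq_zero]; exact e)
    let adj := (shiftEquiv D (1 : ℤ)).toAdjunction
    have h0 : r = 0 := (adj.homEquiv _ _).injective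
      ((hXZ' _).trans (hXZ' _).symm)
    rw [hr, h0, comp_zero]
  · obtain ⟨a, ha⟩ := Triangle.yoneda_exact₂ _ hT v (hXZ _)
    exact ⟨a, ha.symm⟩

include hT in
omit hT' in
/-- Idempotents lift to the middle vertex. -/
theorem exists_idempotent₂ (a : T.obj₁ ⟶ T.obj₁) (c : T.obj₃ ⟶ T.obj₃)
    (ha : a ≫ a = a) (hc : c ≫ c = c)
    (comm : T.mor₃ ≫ (shiftFunctor D (1 : ℤ)).map a = c ≫ T.mor₃) :
    ∃ b : T.obj₂ ⟶ T.obj₂, b ≫ b = b ∧ T.mor₁ ≫ b = a ≫ T.mor₁ ∧ T.mor₂ ≫ c = b ≫ T.mor₂ := by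
  obtain ⟨b, hb₁, hb₂⟩ := complete_distinguished_triangle_morphism₂ T T hT hT a c comm
  let e := b ≫ b - b
  have he₁ : T.mor₁ ≫ e = 0 := by
    simp only [e, Preadditive.comp_sub, reassoc_of% hb₁, hb₁]
    rw [← Category.assoc, ha, sub_self]
  have he₂ : e ≫ T.mor₂ = 0 := by
    simp only [e, Preadditive.sub_comp, Category.assoc, ← hb₂]
    rw [← Category.assoc b, ← hb₂, Category.assoc, hc, sub_self]
  obtain ⟨s, hs⟩ := Triangle.yoneda_exact₂ _ hT e he₁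
  have hee : e ≫ e = 0 :=
    (congrArg (e ≫ ·) hs).trans ((Category.assoc _ _ _).symm.trans ((congrArg (· ≫ s) he₂).trans zero_comp))
  have hcomm : e ≫ b = b ≫ e := by
    simp only [e, Preadditive.sub_comp, Preadditive.comp_sub, Category.assoc]
  have hbb : b ≫ b = b + e := by simp [e]
  refine ⟨b + e - (2 : ℤ) • (b ≫ e), ?_, ?_, ?_⟩
  · have h1 : b ≫ b ≫ e = b ≫ e := by
      rw [← Category.assoc, hbb, Preadditive.add_comp, hee, add_zero]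
    have h2 : e ≫ b ≫ e = 0 := by
      rw [← Category.assoc, hcomm, Category.assoc, hee, comp_zero]
    simp only [Preadditive.add_comp, Preadditive.sub_comp, Preadditive.comp_add, Preadditive.comp_sub,
      Preadditive.zsmul_comp, Preadditive.comp_zsmul, Category.assoc, hbb, hcomm, hee, h1, h2,
      comp_zero, smul_zero]
    abel
  · simp only [Preadditive.comp_add, Preadditive.comp_sub, Preadditive.comp_zsmul, he₁,
      reassoc_of% hb₁, comp_zero, smul_zero, add_zero, sub_zero, hb₁]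
  · simp only [Preadditive.add_comp, Preadditive.sub_comp, Preadditive.zsmul_comp, Category.assoc,
      he₂, comp_zero, smul_zero, add_zero, sub_zero, hb₂]

end Groth.Agent.TriDecomp
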