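import Mathlib

/-!
# Retracts and direct sums of distinguished triangles
-/

set_option autoImplicit false

universe v u

open CategoryTheory CategoryTheory.Limits CategoryTheory.Pretriangulated

namespace Groth.Agent.TriDecomp

variable {D : Type u} [Category.{v} D] [Preadditive D] [HasZeroObject D] [HasShift D ℤ]
  [∀ n : ℤ, (shiftFunctor D n).Additive] [Pretriangulated D]

/-- A candidate triangle with exact `Hom(W, -)`, receiving the cone comparison, is distinguished. -/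
theorem distinguished_of_coexact (T : Triangle D)
    (ex₂ : ∀ (W : D) (y : W ⟶ T.obj₂), y ≫ T.mor₂ = 0 → ∃ x, x ≫ T.mor₁ = y)
    (ex₃ : ∀ (W : D) (z : W ⟶ T.obj₃), z ≫ T.mor₃ = 0 → ∃ y, y ≫ T.mor₂ = z)
    (z31 : T.mor₃ ≫ T.mor₁⟦1⟧' = 0)
    (hc : ∀ (C : D) (g₀ : T.obj₂ ⟶ C) (h₀ : C ⟶ T.obj₁⟦(1 : ℤ)⟧),
      Triangle.mk T.mor₁ g₀ h₀ ∈ distinguishedTriangles →
      ∃ c : C ⟶ T.obj₃, g₀ ≫ c = T.mor₂ ∧ c ≫ T.mor₃ = h₀) :
    T ∈ distinguishedTriangles := by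
  obtain ⟨C, g₀, h₀, hT₀⟩ := distinguished_cocone_triangle T.mor₁
  obtain ⟨c, hc₂, hc₃⟩ := hc C g₀ h₀ hT₀
  have inj : ∀ (W : D) (w : W ⟶ C), w ≫ c = 0 → w = 0 := fun W w hw => by
    have h3 : w ≫ h₀ = 0 := by rw [← hc₃, reassoc_of% hw, zero_comp]
    obtain ⟨y, hy⟩ : ∃ y : W ⟶ T.obj₂, w = y ≫ g₀ := Triangle.coyoneda_exact₃ _ hT₀ w h3
    obtain ⟨x, hx⟩ := ex₂ W y (by rw [← hc₂, ← Category.assoc, ← hy, hw])
    have z12 : T.mor₁ ≫ g₀ = 0 := comp_distTriang_mor_zero₁₂ _ hT₀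
    rw [hy, ← hx, Category.assoc, z12, comp_zero]
  have surj : ∀ (W : D) (z : W ⟶ T.obj₃), ∃ w : W ⟶ C, w ≫ c = z := fun W z => by
    obtain ⟨w, hw⟩ : ∃ w : W ⟶ C, z ≫ T.mor₃ = w ≫ h₀ :=
      Triangle.coyoneda_exact₁ _ hT₀ (z ≫ T.mor₃) (by
        show (z ≫ T.mor₃) ≫ T.mor₁⟦1⟧' = 0
        rw [Category.assoc, z31, comp_zero])
    obtain ⟨y, hy⟩ := ex₃ W (z - w ≫ c) (by rw [Preadditive.sub_comp, Category.assoc, hc₃, hw, sub_self])
    exact ⟨w + y ≫ g₀, by rw [Preadditive.add_comp, Category.assoc, hc₂, hy, add_sub_cancel]⟩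
  obtain ⟨s, hs⟩ := surj _ (𝟙 T.obj₃)
  have : IsIso c := ⟨s, eq_of_sub_eq_zero (inj _ _ (by
    rw [Preadditive.sub_comp, Category.assoc, hs, Category.comp_id, Category.id_comp, sub_self])), hs⟩
  exact isomorphic_distinguished _ hT₀ _ (Triangle.isoMk (Triangle.mk T.mor₁ g₀ h₀) T (Iso.refl _) (Iso.refl _) (@asIso _ _ _ _ c this)
    ((Category.comp_id _).trans (Category.id_comp _).symm) (hc₂.trans (Category.id_comp _).symm)
    ((congrArg (h₀ ≫ ·) ((shiftFunctor D (1 : ℤ)).map_id _)).trans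
      ((Category.comp_id _).trans hc₃.symm))).symm

/-- A retract of a distinguished triangle is distinguished. -/
theorem distinguished_of_retract {T S : Triangle D} (r : Retract T S)
    (hS : S ∈ distinguishedTriangles) : T ∈ distinguishedTriangles := by
  have r₁ : r.i.hom₁ ≫ r.r.hom₁ = 𝟙 _ := congrArg TriangleMorphism.hom₁ r.retract
  have r₂ : r.i.hom₂ ≫ r.r.hom₂ = 𝟙 _ := congrArg TriangleMorphism.hom₂ r.retract
  have r₃ : r.i.hom₃ ≫ r.r.hom₃ = 𝟙 _ := congrArg TriangleMorphism.hom₃ r.retract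
  refine distinguished_of_coexact T (fun W y hy => ?_) (fun W z hz => ?_) ?_
    fun C g₀ h₀ hT₀ => ?_
  · obtain ⟨x, hx⟩ := Triangle.coyoneda_exact₂ _ hS (y ≫ r.i.hom₂) (by
      rw [Category.assoc, ← r.i.comm₂, reassoc_of% hy, zero_comp])
    refine ⟨x ≫ r.r.hom₁, ?_⟩
    rw [Category.assoc, ← r.r.comm₁, ← Category.assoc, ← hx, Category.assoc, r₂, Category.comp_id]
  · obtain ⟨x, hx⟩ := Triangle.coyoneda_exact₃ _ hS (z ≫ r.i.hom₃) (by
      rw [Category.assoc, ← r.i.comm₃, reassoc_of% hz, zero_comp])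
    refine ⟨x ≫ r.r.hom₂, ?_⟩
    rw [Category.assoc, ← r.r.comm₂, ← Category.assoc, ← hx, Category.assoc, r₃, Category.comp_id]
  · have e : T.mor₃ = r.i.hom₃ ≫ S.mor₃ ≫ r.r.hom₁⟦1⟧' := by
      rw [r.r.comm₃, ← Category.assoc, r₃, Category.id_comp]
    rw [e, Category.assoc, Category.assoc, ← Functor.map_comp, ← r.r.comm₁, Functor.map_comp,
      ← Category.assoc (S.mor₃), comp_distTriang_mor_zero₃₁ S hS, zero_comp, comp_zero]
  · obtain ⟨c, hc₂, hc₃⟩ : ∃ c : C ⟶ S.obj₃, g₀ ≫ c = r.i.hom₂ ≫ S.mor₂ ∧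
        h₀ ≫ r.i.hom₁⟦1⟧' = c ≫ S.mor₃ :=
      complete_distinguished_triangle_morphism _ _ hT₀ hS r.i.hom₁ r.i.hom₂ (r.i.comm₁)
    refine ⟨c ≫ r.r.hom₃, ?_, ?_⟩
    · rw [reassoc_of% hc₂, r.r.comm₂, ← Category.assoc, r₂, Category.id_comp]
    · rw [Category.assoc, ← r.r.comm₃, ← Category.assoc, ← hc₃, Category.assoc, ← Functor.map_comp,
        r₁, CategoryTheory.Functor.map_id, Category.comp_id]

/-- The direct sum of two triangles. -/
noncomputable abbrev sumTriangle (T T' : Triangle D) : Triangle D :=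
  Triangle.mk (biprod.map T.mor₁ T'.mor₁) (biprod.map T.mor₂ T'.mor₂)
    (biprod.desc (T.mor₃ ≫ (shiftFunctor D (1 : ℤ)).map biprod.inl)
      (T'.mor₃ ≫ (shiftFunctor D (1 : ℤ)).map biprod.inr))

/-- The first projection of a direct sum of triangles. -/
noncomputable def sumFst (T T' : Triangle D) : sumTriangle T T' ⟶ T :=
  Triangle.homMk _ _ biprod.fst biprod.fst biprod.fst (biprod.map_fst _ _) (biprod.map_fst _ _) (by
    show biprod.desc (T.mor₃ ≫ (shiftFunctor D (1 : ℤ)).map biprod.inl)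
        (T'.mor₃ ≫ (shiftFunctor D (1 : ℤ)).map biprod.inr) ≫
        (shiftFunctor D (1 : ℤ)).map (biprod.fst : T.obj₁ ⊞ T'.obj₁ ⟶ T.obj₁) =
      (biprod.fst : T.obj₃ ⊞ T'.obj₃ ⟶ T.obj₃) ≫ T.mor₃
    apply biprod.hom_ext' <;> simp [← Functor.map_comp])

/-- The second projection of a direct sum of triangles. -/
noncomputable def sumSnd (T T' : Triangle D) : sumTriangle T T' ⟶ T' :=
  Triangle.homMk _ _ biprod.snd biprod.snd biprod.snd (biprod.map_snd _ _) (biprod.map_snd _ _) (by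
    show biprod.desc (T.mor₃ ≫ (shiftFunctor D (1 : ℤ)).map biprod.inl)
        (T'.mor₃ ≫ (shiftFunctor D (1 : ℤ)).map biprod.inr) ≫
        (shiftFunctor D (1 : ℤ)).map (biprod.snd : T.obj₁ ⊞ T'.obj₁ ⟶ T'.obj₁) =
      (biprod.snd : T.obj₃ ⊞ T'.obj₃ ⟶ T'.obj₃) ≫ T'.mor₃
    apply biprod.hom_ext' <;> simp [← Functor.map_comp])

/-- A direct sum of triangles is distinguished iff both are. -/
theorem sumTriangle_distinguished_iff (T T' : Triangle D) :
    sumTriangle T T' ∈ distinguishedTriangles ↔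
      T ∈ distinguishedTriangles ∧ T' ∈ distinguishedTriangles := by
  refine ⟨fun h => ⟨distinguished_of_retract (⟨Triangle.homMk _ _ biprod.inl biprod.inl biprod.inl
      (biprod.inl_map _ _).symm (biprod.inl_map _ _).symm (biprod.inl_desc _ _).symm, sumFst T T', by ext <;> exact biprod.inl_fst⟩ : Retract T (sumTriangle T T')) h,
    distinguished_of_retract (⟨Triangle.homMk _ _ biprod.inr biprod.inr biprod.inr
      (biprod.inr_map _ _).symm (biprod.inr_map _ _).symm (biprod.inr_desc _ _).symm, sumSnd T T', by ext <;> exact biprod.inr_snd⟩ : Retract T' (sumTriangle T T')) h⟩,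
    fun ⟨h, h'⟩ => ?_⟩
  refine distinguished_of_coexact _ (fun W y hy => ?_) (fun W z hz => ?_) ?_ fun C g₀ h₀ hT₀ => ?_
  · change W ⟶ T.obj₂ ⊞ T'.obj₂ at y
    change y ≫ biprod.map T.mor₂ T'.mor₂ = 0 at hy
    obtain ⟨x, hx⟩ := Triangle.coyoneda_exact₂ _ h (y ≫ biprod.fst) (by
      rw [Category.assoc, ← biprod.map_fst T.mor₂ T'.mor₂, reassoc_of% hy, zero_comp])
    obtain ⟨x', hx'⟩ := Triangle.coyoneda_exact₂ _ h' (y ≫ biprod.snd) (by
      rw [Category.assoc, ← biprod.map_snd T.mor₂ T'.mor₂, reassoc_of% hy, zero_comp])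
    refine ⟨biprod.lift x x', ?_⟩
    show biprod.lift x x' ≫ biprod.map T.mor₁ T'.mor₁ = y
    apply biprod.hom_ext
    · rw [Category.assoc, biprod.map_fst, biprod.lift_fst_assoc, hx]
    · rw [Category.assoc, biprod.map_snd, biprod.lift_snd_assoc, hx']
  · change W ⟶ T.obj₃ ⊞ T'.obj₃ at z
    change z ≫ biprod.desc (T.mor₃ ≫ (shiftFunctor D (1 : ℤ)).map biprod.inl)
      (T'.mor₃ ≫ (shiftFunctor D (1 : ℤ)).map biprod.inr) = 0 at hz
    obtain ⟨x, hx⟩ := Triangle.coyoneda_exact₃ _ h (z ≫ biprod.fst) (by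
      have e := hz =≫ (shiftFunctor D (1 : ℤ)).map (biprod.fst : T.obj₁ ⊞ T'.obj₁ ⟶ T.obj₁)
      rw [zero_comp, Category.assoc] at e
      exact (Category.assoc _ _ _).trans ((congrArg (z ≫ ·) (sumFst T T').comm₃.symm).trans e))
    obtain ⟨x', hx'⟩ := Triangle.coyoneda_exact₃ _ h' (z ≫ biprod.snd) (by
      have e := hz =≫ (shiftFunctor D (1 : ℤ)).map (biprod.snd : T.obj₁ ⊞ T'.obj₁ ⟶ T'.obj₁)
      rw [zero_comp, Category.assoc] at e
      exact (Category.assoc _ _ _).trans ((congrArg (z ≫ ·) (sumSnd T T').comm₃.symm).trans e))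
    refine ⟨biprod.lift x x', ?_⟩
    show biprod.lift x x' ≫ biprod.map T.mor₂ T'.mor₂ = z
    apply biprod.hom_ext
    · rw [Category.assoc, biprod.map_fst, biprod.lift_fst_assoc, hx]
    · rw [Category.assoc, biprod.map_snd, biprod.lift_snd_assoc, hx']
  · show biprod.desc (T.mor₃ ≫ (shiftFunctor D (1 : ℤ)).map biprod.inl)
      (T'.mor₃ ≫ (shiftFunctor D (1 : ℤ)).map biprod.inr) ≫
      (shiftFunctor D (1 : ℤ)).map (biprod.map T.mor₁ T'.mor₁) = 0
    apply biprod.hom_ext'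
    · rw [biprod.inl_desc_assoc, Category.assoc, ← Functor.map_comp, biprod.inl_map, Functor.map_comp,
        reassoc_of% (comp_distTriang_mor_zero₃₁ T h), zero_comp, comp_zero]
    · rw [biprod.inr_desc_assoc, Category.assoc, ← Functor.map_comp, biprod.inr_map, Functor.map_comp,
        reassoc_of% (comp_distTriang_mor_zero₃₁ T' h'), zero_comp, comp_zero]
  · obtain ⟨c, hc₂, hc₃⟩ : ∃ c : C ⟶ T.obj₃, g₀ ≫ c = biprod.fst ≫ T.mor₂ ∧
        h₀ ≫ (biprod.fst : T.obj₁ ⊞ T'.obj₁ ⟶ T.obj₁)⟦1⟧' = c ≫ T.mor₃ :=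
      complete_distinguished_triangle_morphism _ _ hT₀ h biprod.fst biprod.fst (sumFst T T').comm₁
    obtain ⟨c', hc₂', hc₃'⟩ : ∃ c : C ⟶ T'.obj₃, g₀ ≫ c = biprod.snd ≫ T'.mor₂ ∧
        h₀ ≫ (biprod.snd : T.obj₁ ⊞ T'.obj₁ ⟶ T'.obj₁)⟦1⟧' = c ≫ T'.mor₃ :=
      complete_distinguished_triangle_morphism _ _ hT₀ h' biprod.snd biprod.snd (sumSnd T T').comm₁
    refine ⟨biprod.lift c c', ?_, ?_⟩
    · show g₀ ≫ biprod.lift c c' = biprod.map T.mor₂ T'.mor₂
      apply biprod.hom_ext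
      · exact (Category.assoc _ _ _).trans ((congrArg (g₀ ≫ ·) (biprod.lift_fst c c')).trans (hc₂.trans (biprod.map_fst _ _).symm))
      · exact (Category.assoc _ _ _).trans ((congrArg (g₀ ≫ ·) (biprod.lift_snd c c')).trans (hc₂'.trans (biprod.map_snd _ _).symm))
    show biprod.lift c c' ≫ biprod.desc (T.mor₃ ≫ (shiftFunctor D (1 : ℤ)).map biprod.inl)
      (T'.mor₃ ≫ (shiftFunctor D (1 : ℤ)).map biprod.inr) = h₀
    rw [biprod.lift_desc, ← Category.assoc c, ← hc₃, ← Category.assoc c', ← hc₃']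
    refine (congrArg₂ (· + ·) (Category.assoc _ _ _) (Category.assoc _ _ _)).trans ?_
    refine (Preadditive.comp_add _ _ _ _ _ _).symm.trans ?_
    refine (congrArg (h₀ ≫ ·) ?_).trans (Category.comp_id h₀)
    exact (congrArg₂ (· + ·) (Functor.map_comp _ _ _).symm (Functor.map_comp _ _ _).symm).trans
      ((Functor.map_add _).symm.trans ((congrArg _ biprod.total).trans
        ((shiftFunctor D (1 : ℤ)).map_id _)))

end Groth.Agent.TriDecomp
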