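import Mathlib

/-!
# Kernels of exact and homological functors, orthogonals
-/

set_option autoImplicit false
set_option linter.style.haveILetI false

universe v u v' u'

open CategoryTheory CategoryTheory.Limits CategoryTheory.Pretriangulated
open scoped ZeroObject

namespace Groth.Agent.TriDecomp

variable {D : Type u} [Category.{v} D] [Preadditive D] [HasZeroObject D] [HasShift D ℤ]
  [∀ n : ℤ, (shiftFunctor D n).Additive] [Pretriangulated D]

theorem isZero_of_retract {A : Type u'} [Category.{v'} A] [HasZeroMorphisms A] {X Y : A}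
    (r : Retract X Y) (h : IsZero Y) : IsZero X := by
  rw [IsZero.iff_id_eq_zero, ← r.retract, h.eq_of_tgt r.i 0, zero_comp]

/-- The kernel of an exact functor is a thick triangulated subcategory. -/
theorem kernel_triangulated {D' : Type u'} [Category.{v'} D'] [Preadditive D'] [HasZeroObject D']
    [HasShift D' ℤ] [∀ n : ℤ, (shiftFunctor D' n).Additive] [Pretriangulated D']
    (F : D ⥤ D') [F.Additive] [F.CommShift ℤ] [F.IsTriangulated] :
    (ObjectProperty.IsTriangulated (fun X : D => IsZero (F.obj X))) ∧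
    (ObjectProperty.IsClosedUnderIsomorphisms (fun X : D => IsZero (F.obj X))) ∧
    (∀ X Y : D, IsZero (F.obj (X ⊞ Y)) → IsZero (F.obj X) ∧ IsZero (F.obj Y)) := by
  refine ⟨?_, ⟨fun e h => h.of_iso (F.mapIso e).symm⟩, fun X Y h =>
    ⟨isZero_of_retract ((⟨biprod.inl, biprod.fst, biprod.inl_fst⟩ : Retract X (X ⊞ Y)).map F) h,
     isZero_of_retract ((⟨biprod.inr, biprod.snd, biprod.inr_snd⟩ : Retract Y (X ⊞ Y)).map F) h⟩⟩
  have h₂ : ObjectProperty.IsTriangulatedClosed₂ (fun X : D => IsZero (F.obj X)) :=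
    ⟨fun T hT h₁ h₃ => ObjectProperty.le_isoClosure _ _
      (Triangle.isZero₂_of_isZero₁₃ _ (F.map_distinguished T hT) h₁ h₃)⟩
  have h₀ : ObjectProperty.ContainsZero (fun X : D => IsZero (F.obj X)) :=
    ⟨0, isZero_zero _, F.map_isZero (isZero_zero _)⟩
  have hs : ObjectProperty.IsStableUnderShift (fun X : D => IsZero (F.obj X)) ℤ :=
    ⟨fun a => ⟨fun X hX => ((shiftFunctor D' a).map_isZero hX).of_iso ((F.commShiftIso a).app X)⟩⟩
  exact {}

variable {A : Type u'} [Category.{v'} A] [Abelian A] (H : D ⥤ A) [H.IsHomological]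

/-- Objects on which a homological functor vanishes on a set of shifts closed at infinity. -/
theorem bounded_triangulated (S : ℤ → ℤ → Prop) (hinter : ∀ N N', ∃ M, ∀ n, S M n → S N n ∧ S N' n)
    (hshift : ∀ N a, ∃ M, ∀ n, S M n → S N (a + n)) :
    (ObjectProperty.IsTriangulated
        (fun X : D => ∃ N : ℤ, ∀ n : ℤ, S N n → IsZero (H.obj ((shiftFunctor D n).obj X)))) ∧
    (ObjectProperty.IsClosedUnderIsomorphisms
        (fun X : D => ∃ N : ℤ, ∀ n : ℤ, S N n → IsZero (H.obj ((shiftFunctor D n).obj X)))) ∧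
    (∀ X Y : D, (∃ N : ℤ, ∀ n : ℤ, S N n → IsZero (H.obj ((shiftFunctor D n).obj (X ⊞ Y)))) →
      (∃ N : ℤ, ∀ n : ℤ, S N n → IsZero (H.obj ((shiftFunctor D n).obj X))) ∧
      (∃ N : ℤ, ∀ n : ℤ, S N n → IsZero (H.obj ((shiftFunctor D n).obj Y)))) := by
  let P : ObjectProperty D :=
    fun X => ∃ N : ℤ, ∀ n : ℤ, S N n → IsZero (H.obj ((shiftFunctor D n).obj X))
  refine ⟨?_, ⟨fun e ⟨N, h⟩ => ⟨N, fun n hn =>
      (h n hn).of_iso (H.mapIso ((shiftFunctor D n).mapIso e)).symm⟩⟩, fun X Y ⟨N, h⟩ =>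
    ⟨⟨N, fun n hn => isZero_of_retract
      (((⟨biprod.inl, biprod.fst, biprod.inl_fst⟩ : Retract X (X ⊞ Y)).map (shiftFunctor D n)).map H) (h n hn)⟩,
     ⟨N, fun n hn => isZero_of_retract
      (((⟨biprod.inr, biprod.snd, biprod.inr_snd⟩ : Retract Y (X ⊞ Y)).map (shiftFunctor D n)).map H) (h n hn)⟩⟩⟩
  have h₂ : P.IsTriangulatedClosed₂ :=
    ⟨fun T hT ⟨N, h⟩ ⟨N', h'⟩ => ObjectProperty.le_isoClosure _ _ (by
      obtain ⟨M, hM⟩ := hinter N N'
      refine ⟨M, fun n hn => ?_⟩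
      exact (H.map_distinguished_exact _ (Triangle.shift_distinguished T hT n)).isZero_of_both_zeros
        ((h n (hM n hn).1).eq_of_src _ _) ((h' n (hM n hn).2).eq_of_tgt _ _))⟩
  have h₀ : P.ContainsZero :=
    ⟨0, isZero_zero _, 0, fun n _ => H.map_isZero ((shiftFunctor D n).map_isZero (isZero_zero _))⟩
  have hs : P.IsStableUnderShift ℤ :=
    ⟨fun a => ⟨fun X ⟨N, h⟩ => by
      obtain ⟨M, hM⟩ := hshift N a
      exact ⟨M, fun n hn =>
        (h (a + n) (hM n hn)).of_iso (H.mapIso ((shiftFunctorAdd D a n).symm.app X))⟩⟩⟩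
  show P.IsTriangulated
  exact {}

omit [H.IsHomological]

variable (P : ObjectProperty D) [P.IsStableUnderShift ℤ] (T : Triangle D)
  (hT : T ∈ distinguishedTriangles)

include hT in
theorem rightOrthogonal_iff_bijective :
    P.rightOrthogonal T.obj₃ ↔
      ∀ A : D, P A → Function.Bijective (fun u : A ⟶ T.obj₁ => u ≫ T.mor₁) := by
  constructor
  · refine fun h A hA => ⟨fun a b e => ?_, fun v => ?_⟩
    · rw [← sub_eq_zero]
      obtain ⟨t, ht⟩ := Triangle.coyoneda_exact₂ _ (inv_rot_of_distTriang T hT) (a - b)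
        (show (a - b) ≫ T.mor₁ = 0 by rw [Preadditive.sub_comp, sub_eq_zero]; exact e)
      have h0 : t = 0 := ((shiftEquiv D (1 : ℤ)).toAdjunction.homEquiv _ _).symm.injective
        ((h _ (P.le_shift (1 : ℤ) A hA)).trans (h _ (P.le_shift (1 : ℤ) A hA)).symm)
      exact ht.trans ((congrArg (· ≫ _) h0).trans zero_comp)
    · obtain ⟨a, ha⟩ := Triangle.coyoneda_exact₂ _ hT v (h _ hA)
      exact ⟨a, ha.symm⟩
  · intro h A z hA
    have h0 : z ≫ T.mor₃ = 0 := by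
      let e : ((shiftFunctor D (-1 : ℤ)).obj A)⟦(1 : ℤ)⟧ ≅ A :=
        (shiftEquiv D (1 : ℤ)).counitIso.app A
      obtain ⟨v, hv⟩ := (shiftFunctor D (1 : ℤ)).map_surjective (e.hom ≫ z ≫ T.mor₃)
      have hv0 : v = 0 := (h _ (P.le_shift (-1 : ℤ) A hA)).1 (by
        show v ≫ T.mor₁ = 0 ≫ T.mor₁
        apply (shiftFunctor D (1 : ℤ)).map_injective
        rw [zero_comp, Functor.map_comp, hv, Functor.map_zero, Category.assoc, Category.assoc,
          comp_distTriang_mor_zero₃₁ T hT, comp_zero, comp_zero])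
      rw [← cancel_epi e.hom, comp_zero, ← hv, hv0, Functor.map_zero]
    obtain ⟨y, hy⟩ := Triangle.coyoneda_exact₃ _ hT z h0
    obtain ⟨x, hx⟩ := (h A hA).2 y
    rw [hy, ← hx]
    exact (Category.assoc _ _ _).trans ((congrArg (x ≫ ·) (comp_distTriang_mor_zero₁₂ T hT)).trans comp_zero)

include hT in
theorem leftOrthogonal_iff_bijective :
    P.leftOrthogonal T.obj₁ ↔
      ∀ B : D, P B → Function.Bijective (fun u : T.obj₃ ⟶ B => T.mor₂ ≫ u) := by
  constructor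
  · refine fun h B hB => ⟨fun a b e => ?_, fun v => ?_⟩
    · rw [← sub_eq_zero]
      obtain ⟨r, hr⟩ := Triangle.yoneda_exact₃ _ hT (a - b)
        (by rw [Preadditive.comp_sub, sub_eq_zero]; exact e)
      have h0 : r = 0 := ((shiftEquiv D (1 : ℤ)).toAdjunction.homEquiv _ _).injective
        ((h _ (P.le_shift (-1 : ℤ) B hB)).trans (h _ (P.le_shift (-1 : ℤ) B hB)).symm)
      rw [hr, h0, comp_zero]
    · obtain ⟨a, ha⟩ := Triangle.yoneda_exact₂ _ hT v (h _ hB)
      exact ⟨a, ha.symm⟩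
  · intro h B x hB
    have h0 : T.mor₃ ≫ x⟦(1 : ℤ)⟧' = 0 := (h _ (P.le_shift (1 : ℤ) B hB)).1 (by
      show T.mor₂ ≫ T.mor₃ ≫ x⟦(1 : ℤ)⟧' = T.mor₂ ≫ 0
      rw [← Category.assoc, comp_distTriang_mor_zero₂₃ T hT, zero_comp, comp_zero])
    obtain ⟨s, hs⟩ : ∃ s : T.obj₂⟦(1 : ℤ)⟧ ⟶ B⟦(1 : ℤ)⟧, x⟦(1 : ℤ)⟧' = (-T.mor₁⟦(1 : ℤ)⟧') ≫ s :=
      Triangle.yoneda_exact₃ _ (rot_of_distTriang T hT) (x⟦(1 : ℤ)⟧') h0
    obtain ⟨y, rfl⟩ := (shiftFunctor D (1 : ℤ)).map_surjective s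
    have hx : x = -(T.mor₁ ≫ y) := (shiftFunctor D (1 : ℤ)).map_injective (by
      rw [hs, Functor.map_neg, Functor.map_comp, Preadditive.neg_comp])
    obtain ⟨b, rfl⟩ := (h B hB).2 y
    rw [hx, show T.mor₁ ≫ T.mor₂ ≫ b = 0 by
      rw [← Category.assoc, comp_distTriang_mor_zero₁₂ T hT, zero_comp], neg_zero]

end Groth.Agent.TriDecomp
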