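import Mathlib

/-!
# Kernels of triangulated localizations
-/

set_option autoImplicit false
set_option linter.style.haveILetI false
set_option linter.unusedSectionVars false

universe v u v' u'

open CategoryTheory CategoryTheory.Limits CategoryTheory.Pretriangulated
open scoped ZeroObject

namespace Groth.Agent.TriDecomp

section

variable {C : Type*} [Category C] {E : Type*} [Category E]

theorem isZero_map_equiv (e : C ≌ E) {X : C} (h : IsZero X) : IsZero (e.functor.obj X) :=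
  ⟨fun Y => by
    haveI := Classical.choice (h.unique_to (e.inverse.obj Y))
    exact ⟨(e.toAdjunction.homEquiv X Y).unique⟩,
   fun Y => by
    haveI := Classical.choice (h.unique_from (e.inverse.obj Y))
    haveI : Unique (e.symm.functor.obj Y ⟶ X) := ‹Unique (e.inverse.obj Y ⟶ X)›
    exact ⟨(e.symm.toAdjunction.homEquiv Y X).symm.unique⟩⟩

variable (S : MorphismProperty C) (Q : C ⥤ E) [Q.IsLocalization S]

theorem isZero_iff_localization (X : C) : IsZero (Q.obj X) ↔ IsZero (S.Q.obj X) := by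
  let e := Localization.uniq S.Q Q S
  let i : e.functor.obj (S.Q.obj X) ≅ Q.obj X := (Localization.compUniqFunctor S.Q Q S).app X
  exact ⟨fun h => (isZero_map_equiv e.symm (h.of_iso i)).of_iso (e.unitIso.app _),
    fun h => (isZero_map_equiv e h).of_iso i.symm⟩

theorem isIso_iff_localization {X Y : C} (f : X ⟶ Y) : IsIso (Q.map f) ↔ IsIso (S.Q.map f) := by
  rw [← isIso_iff_of_reflects_iso (S.Q.map f) (Localization.uniq S.Q Q S).functor]
  exact (NatIso.isIso_map_iff (Localization.compUniqFunctor S.Q Q S) f).symm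

end

variable {D : Type u} [Category.{v} D] [Preadditive D] [HasZeroObject D] [HasShift D ℤ]
  [∀ n : ℤ, (shiftFunctor D n).Additive] [Pretriangulated D]

/-- The Ore conditions follow from compatibility with the triangulation. -/
theorem exists_ore (S : MorphismProperty D) [S.IsMultiplicative] [S.IsCompatibleWithTriangulation]
    {X Y X' : D} (f : X ⟶ Y) (t : X ⟶ X') (ht : S t) :
    ∃ (Y' : D) (f' : X' ⟶ Y') (s' : Y ⟶ Y'), S s' ∧ f ≫ s' = t ≫ f' := by
  obtain ⟨C, g, h, hT⟩ := distinguished_cocone_triangle t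
  obtain ⟨c₀, hc₀, -⟩ := MorphismProperty.compatible_with_triangulation (W := S)
    (contractibleTriangle X) (Triangle.mk t g h) (contractible_distinguished X) hT
    (𝟙 X) t (S.id_mem X) ht rfl
  have h0 : S (0 : (0 : D) ⟶ C) := by
    obtain rfl : c₀ = 0 := (isZero_zero D).eq_of_src _ _
    exact hc₀
  obtain ⟨Y', s', g', hT'⟩ := distinguished_cocone_triangle₂ (h ≫ f⟦(1 : ℤ)⟧')
  obtain ⟨b, hb₁, -⟩ := complete_distinguished_triangle_morphism₂ _ _ hT hT' f (𝟙 C)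
    (Category.id_comp _).symm
  have hiso : S ((shiftFunctor D (-1 : ℤ)).map (0 : (0 : D) ⟶ C)) :=
    (MorphismProperty.IsCompatibleWithShift.iff S _ (-1 : ℤ)).2 h0
  have hY : Triangle.mk (0 : ((0 : D))⟦(-1 : ℤ)⟧ ⟶ Y) (𝟙 Y) 0 ∈ distinguishedTriangles :=
    isomorphic_distinguished _ (inv_rot_of_distTriang _ (contractible_distinguished Y)) _
      (Triangle.isoMk _ _ (Iso.refl _) (Iso.refl _) (Iso.refl _)
        (((shiftFunctor D (-1 : ℤ)).map_isZero (isZero_zero D)).eq_of_src _ _)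
        ((Category.comp_id _).trans (Category.id_comp _).symm)
        (((shiftFunctor D (1 : ℤ)).map_isZero
          ((shiftFunctor D (-1 : ℤ)).map_isZero (isZero_zero D))).eq_of_tgt _ _))
  obtain ⟨c, hc, hc₂, -⟩ := MorphismProperty.compatible_with_triangulation (W := S)
    _ _ hY (inv_rot_of_distTriang _ hT') ((shiftFunctor D (-1 : ℤ)).map (0 : (0 : D) ⟶ C)) (𝟙 Y)
    hiso (S.id_mem Y) (((shiftFunctor D (-1 : ℤ)).map_isZero (isZero_zero D)).eq_of_src _ _)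
  refine ⟨Y', b, s', ?_, hb₁.symm⟩
  have e : c = s' := ((Category.id_comp c).symm.trans hc₂).trans (Category.id_comp _)
  exact e ▸ hc

/-- The dual Ore condition. -/
theorem exists_coore (S : MorphismProperty D) [S.IsMultiplicative] [S.IsCompatibleWithTriangulation]
    {X Y Y' : D} (f : X ⟶ Y) (s : Y' ⟶ Y) (hs : S s) :
    ∃ (X' : D) (f' : X' ⟶ Y') (t' : X' ⟶ X), S t' ∧ t' ≫ f = f' ≫ s := by
  obtain ⟨C, g, h, hT⟩ := distinguished_cocone_triangle s
  obtain ⟨c₀, hc₀, -⟩ := MorphismProperty.compatible_with_triangulation (W := S)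
    (Triangle.mk s g h) (contractibleTriangle Y) hT (contractible_distinguished Y)
    s (𝟙 Y) hs (S.id_mem Y) rfl
  have h0 : S (0 : C ⟶ (0 : D)) := by
    obtain rfl : c₀ = 0 := (isZero_zero D).eq_of_tgt _ _
    exact hc₀
  obtain ⟨X', t, k, hT'⟩ := distinguished_cocone_triangle₁ (f ≫ g)
  obtain ⟨a, ha, -⟩ := complete_distinguished_triangle_morphism₁ _ _ hT' hT f (𝟙 C)
    (Category.comp_id _)
  refine ⟨X', a, t, ?_, ha⟩
  obtain ⟨c, hc, -, hc₃⟩ : ∃ (c : X'⟦(1 : ℤ)⟧ ⟶ X⟦(1 : ℤ)⟧) (_ : S c), True ∧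
      (-(shiftFunctor D (1 : ℤ)).map t) ≫ (shiftFunctor D (1 : ℤ)).map (𝟙 X) =
        c ≫ (-(shiftFunctor D (1 : ℤ)).map (𝟙 X)) := by
    obtain ⟨c, hc, -, hc₃⟩ := MorphismProperty.compatible_with_triangulation (W := S)
      _ _ (rot_of_distTriang _ hT') (rot_of_distTriang _ (contractible_distinguished X))
      (𝟙 X) (0 : C ⟶ (0 : D)) (S.id_mem X) h0 ((isZero_zero D).eq_of_tgt _ _)
    exact ⟨c, hc, trivial, hc₃⟩
  have e : c = (shiftFunctor D (1 : ℤ)).map t := by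
    have e1 := hc₃
    rw [CategoryTheory.Functor.map_id, Category.comp_id, Preadditive.comp_neg,
      Category.comp_id, neg_inj] at e1
    exact e1.symm
  exact (MorphismProperty.IsCompatibleWithShift.iff S t (1 : ℤ)).1 (e ▸ hc)

variable (S : MorphismProperty D) [S.HasLeftCalculusOfFractions] [S.HasRightCalculusOfFractions]
  [S.IsCompatibleWithTriangulation]

theorem exists_zero_mem_from {Z : D} (h : IsZero (S.Q.obj Z)) :
    ∃ Z' : D, S (0 : Z ⟶ Z') := by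
  obtain ⟨Z', s, hs, e⟩ := (MorphismProperty.map_eq_iff_postcomp S.Q S (𝟙 Z) 0).1 (h.eq_of_src _ _)
  rw [Category.id_comp, zero_comp] at e
  exact ⟨Z', e ▸ hs⟩

theorem exists_zero_mem_to {Z : D} (h : IsZero (S.Q.obj Z)) :
    ∃ Z' : D, S (0 : Z' ⟶ Z) := by
  obtain ⟨Z', s, hs, e⟩ := (MorphismProperty.map_eq_iff_precomp S.Q S (𝟙 Z) 0).1 (h.eq_of_src _ _)
  rw [Category.comp_id, comp_zero] at e
  exact ⟨Z', e ▸ hs⟩

theorem isZero_Q_cone {T : Triangle D} (hT : T ∈ distinguishedTriangles)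
    (h : IsIso (S.Q.map T.mor₁)) : IsZero (S.Q.obj T.obj₃) :=
  Triangle.isZero₃_of_isIso₁ _ (S.Q.map_distinguished T hT) h

theorem isZero_Q_of_zero_from {Z Z' : D} (h : S (0 : Z ⟶ Z')) : IsZero (S.Q.obj Z) := by
  have : IsIso (S.Q.map (0 : Z ⟶ Z')) := Localization.inverts S.Q S _ h
  rw [IsZero.iff_id_eq_zero, ← cancel_mono (S.Q.map (0 : Z ⟶ Z')), Functor.map_zero, comp_zero,
    comp_zero]

theorem isZero_Q_of_zero_to {Z Z' : D} (h : S (0 : Z' ⟶ Z)) : IsZero (S.Q.obj Z) := by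
  have : IsIso (S.Q.map (0 : Z' ⟶ Z)) := Localization.inverts S.Q S _ h
  rw [IsZero.iff_id_eq_zero, ← cancel_epi (S.Q.map (0 : Z' ⟶ Z)), Functor.map_zero, zero_comp,
    zero_comp]

theorem exists_triangle_of_zero_to {Z Z' : D} (h : S (0 : Z' ⟶ Z)) :
    ∃ (W X Y : D) (f : X ⟶ Y) (g : Y ⟶ Z ⊞ W) (h : Z ⊞ W ⟶ (shiftFunctor D (1 : ℤ)).obj X),
      Triangle.mk f g h ∈ distinguishedTriangles ∧ S f := by
  obtain ⟨C, g, k, hT⟩ := distinguished_cocone_triangle (0 : Z' ⟶ Z)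
  obtain ⟨e, -⟩ := exists_iso_binaryBiproduct_of_distTriang _ (rot_of_distTriang _ hT)
    (show -(shiftFunctor D (1 : ℤ)).map (0 : Z' ⟶ Z) = 0 by rw [Functor.map_zero, neg_zero])
  let e' : C ≅ Z ⊞ Z'⟦(1 : ℤ)⟧ := e
  refine ⟨Z'⟦(1 : ℤ)⟧, Z', Z, 0, g ≫ e'.hom, e'.inv ≫ k, ?_, h⟩
  exact isomorphic_distinguished _ hT _ (Triangle.isoMk _ _ (Iso.refl _) (Iso.refl _) e'.symm
    ((Category.comp_id _).trans (Category.id_comp _).symm)
    ((Category.assoc g _ _).trans ((congrArg (g ≫ ·) e'.hom_inv_id).trans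
      ((Category.comp_id g).trans (Category.id_comp g).symm)))
    ((congrArg ((e'.inv ≫ k) ≫ ·) ((shiftFunctor D (1 : ℤ)).map_id _)).trans (Category.comp_id _)))

theorem isZero_Q_of_triangle {Z W X Y : D} (f : X ⟶ Y) (g : Y ⟶ Z ⊞ W)
    (h : Z ⊞ W ⟶ (shiftFunctor D (1 : ℤ)).obj X)
    (hT : Triangle.mk f g h ∈ distinguishedTriangles) (hf : S f) : IsZero (S.Q.obj Z) := by
  let r : Retract Z (Z ⊞ W) := ⟨biprod.inl, biprod.fst, biprod.inl_fst⟩
  have h₃ : IsZero (S.Q.obj (Z ⊞ W)) := isZero_Q_cone S hT (Localization.inverts S.Q S _ hf)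
  rw [IsZero.iff_id_eq_zero, ← (r.map S.Q).retract, h₃.eq_of_tgt (r.map S.Q).i 0, zero_comp]

theorem isZero_iff_from {E : Type u'} [Category.{v'} E] (Q : D ⥤ E) [Q.IsLocalization S] (Z : D) :
    (IsZero (Q.obj Z) ↔ ∃ Z' : D, S (0 : Z ⟶ Z')) ∧
    (IsZero (Q.obj Z) ↔ ∃ Z' : D, S (0 : Z' ⟶ Z)) ∧
    (IsZero (Q.obj Z) ↔ ∃ (Z' X Y : D) (f : X ⟶ Y) (g : Y ⟶ Z ⊞ Z')
      (h : Z ⊞ Z' ⟶ (shiftFunctor D (1 : ℤ)).obj X),
      Triangle.mk f g h ∈ distinguishedTriangles ∧ S f) := by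
  simp only [isZero_iff_localization S Q Z]
  refine ⟨⟨exists_zero_mem_from S, fun ⟨_, h⟩ => isZero_Q_of_zero_from S h⟩,
    ⟨exists_zero_mem_to S, fun ⟨_, h⟩ => isZero_Q_of_zero_to S h⟩,
    fun h => ?_, fun ⟨_, _, _, f, g, k, hT, hf⟩ => isZero_Q_of_triangle S f g k hT hf⟩
  obtain ⟨Z', hZ'⟩ := exists_zero_mem_to S h
  exact exists_triangle_of_zero_to S hZ'

theorem trW_kernel_iff {E : Type u'} [Category.{v'} E] (Q : D ⥤ E) [Q.IsLocalization S] {X Y : D}
    (f : X ⟶ Y) : ObjectProperty.trW (fun Z : D => IsZero (Q.obj Z)) f ↔ IsIso (Q.map f) := by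
  rw [isIso_iff_localization S Q f, ObjectProperty.trW_iff]
  refine ⟨fun ⟨C, g, h, hT, hC⟩ => ?_, fun hf => ?_⟩
  · exact (Triangle.isZero₃_iff_isIso₁ _ (S.Q.map_distinguished _ hT)).1
      ((isZero_iff_localization S Q C).1 hC)
  · obtain ⟨C, g, h, hT⟩ := distinguished_cocone_triangle f
    exact ⟨C, g, h, hT, (isZero_iff_localization S Q C).2 (isZero_Q_cone S hT hf)⟩

theorem isZero_iff_summand [IsTriangulated D] (B : ObjectProperty D) [B.IsTriangulated]
    {E : Type u'} [Category.{v'} E] (Q : D ⥤ E) [Q.IsLocalization B.trW] (Z : D) :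
    IsZero (Q.obj Z) ↔ ∃ (Z' Y : D), B Y ∧ Nonempty (Z ⊞ Z' ≅ Y) := by
  rw [(isZero_iff_from B.trW Q Z).2.2]
  constructor
  · rintro ⟨Z', X, Y, f, g, h, hT, hf⟩
    obtain ⟨Y', g', h', hT', hY'⟩ := (B.trW_iff f).1 hf
    exact ⟨Z', Y', hY', ⟨Triangle.π₃.mapIso
      (isoTriangleOfIso₁₂ _ _ hT hT' (Iso.refl _) (Iso.refl _)
        ((Category.comp_id f).trans (Category.id_comp f).symm))⟩⟩
  · rintro ⟨Z', Y, hY, ⟨e⟩⟩
    have hT := contractible_distinguished₁ Y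
    refine ⟨Z', 0, Y, 0, e.inv, 0, ?_, ObjectProperty.trW.mk B hT hY⟩
    exact isomorphic_distinguished _ hT _ (Triangle.isoMk _ _ (Iso.refl _) (Iso.refl _) e
      ((Category.comp_id _).trans (Category.id_comp _).symm)
      (e.inv_hom_id.trans (Category.id_comp (𝟙 Y)).symm)
      (zero_comp.trans comp_zero.symm))

end Groth.Agent.TriDecomp
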